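import Groth.Agent.H30.ModThick
import Groth.Agent.Lib.Kaehler.LocFree
import Groth.Agent.Lib.QCoh.Pullback

/-!
# Quasi-coherent modules with a basis of sections on an affine open are free there
-/

set_option autoImplicit false
set_option backward.isDefEq.respectTransparency false
universe u

open CategoryTheory Limits AlgebraicGeometry Opposite TopologicalSpace

namespace Groth.Agent.Lib.QCohChart.Free

open QCoh.Tilde

variable {X : Scheme.{u}} (M : X.Modules) {U : X.Opens}

/-- Global sections over the spectrum of an affine open are the sections over it. -/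
theorem exists_equiv (hU : IsAffineOpen U) :
    Nonempty ((specΓ Γ(X, U)).obj (M.restrict hU.fromSpec) ≅ ModuleCat.of Γ(X, U) Γ(M, U)) := by
  have e : hU.fromSpec ''ᵁ ⊤ = U := by
    rw [Scheme.Hom.image_top_eq_opensRange, hU.opensRange_fromSpec]
  refine ⟨LinearEquiv.toModuleIso
    (X₁ := (specΓ Γ(X, U)).obj (M.restrict hU.fromSpec))
    { toFun := fun z ↦ M.presheaf.map (eqToHom e.symm).op (z : Γ(M, hU.fromSpec ''ᵁ ⊤))
      invFun := fun z ↦ (M.presheaf.map (eqToHom e).op z :)
      left_inv := fun z ↦ ?_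
      right_inv := fun z ↦ ?_
      map_add' := fun a b ↦ map_add (M.presheaf.map (eqToHom e.symm).op).hom a b
      map_smul' := fun r z ↦ ?_ }⟩
  · refine Eq.trans ?_ (congrArg (fun c : Γ(X, U) ↦
      c • M.presheaf.map (eqToHom e.symm).op (z : Γ(M, hU.fromSpec ''ᵁ ⊤)))
        (H30.ModThick.fromSpec_smul_eq hU e r))
    exact M.map_smul _ _ _
  · simp [← AddCommGrpCat.comp_apply, ← Functor.map_comp]
  · simp [← AddCommGrpCat.comp_apply, ← Functor.map_comp]

theorem isQCoh_restrict [M.IsQuasicoherent] (hU : IsAffineOpen U) :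
    (M.restrict hU.fromSpec).IsQuasicoherent :=
  have := QCoh.Pullback.isQCoh_pullback hU.fromSpec M
  (SheafOfModules.isQuasicoherent (R := (Spec Γ(X, U)).ringCatSheaf)).prop_of_iso
    ((Scheme.Modules.restrictFunctorIsoPullback hU.fromSpec).app M).symm ‹_›

/-- Quasi-coherent modules on an affine open are the tilde of their sections. -/
theorem nonempty_tilde_iso [M.IsQuasicoherent] (hU : IsAffineOpen U) :
    Nonempty (M.restrict hU.fromSpec ≅ tilde (ModuleCat.of Γ(X, U) Γ(M, U))) := by
  haveI := isQCoh_restrict M hU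
  obtain ⟨e⟩ := exists_equiv M hU
  exact ⟨(isoTildeSections (M.restrict hU.fromSpec)).symm ≪≫ (tilde.functor _).mapIso e⟩

/-- A basis of sections over an affine open trivialises the module there. -/
theorem nonempty_free [M.IsQuasicoherent] (hU : IsAffineOpen U) {n : ℕ}
    (b : Module.Basis (Fin n) Γ(X, U) Γ(M, U)) :
    Nonempty (M.restrict U.ι ≅ FlatMod.freeMod (↑U) n) := by
  obtain ⟨e⟩ := nonempty_tilde_iso M hU
  have h := Kaehler.LocFree.free_nhd_of_chart hU.fromSpec
    (e ≪≫ Kaehler.LocFree.tildeFreeIso (M := ModuleCat.of Γ(X, U) Γ(M, U)) b)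
  rwa [hU.opensRange_fromSpec] at h

/-- Finite projective sections on an affine cover give finite local freeness. -/
theorem isFinLocFree [M.IsQuasicoherent]
    (h : ∀ x : X, ∃ U : X.Opens, IsAffineOpen U ∧ x ∈ U ∧
      Module.Finite Γ(X, U) Γ(M, U) ∧ Module.Projective Γ(X, U) Γ(M, U)) :
    FlatMod.IsFinLocFree M := Kaehler.LocFree.isFinLocFree_of_charts M fun x => by
  obtain ⟨U, hU, hx, h1, h2⟩ := h x
  obtain ⟨e⟩ := nonempty_tilde_iso M hU
  exact Kaehler.LocFree.exists_free_restrict hU (ModuleCat.of Γ(X, U) Γ(M, U)) e hx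

end Groth.Agent.Lib.QCohChart.Free
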