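import Groth.Agent.Lib.QCohChart.Free

/-!
# Retractions of maps of quasi-coherent modules from retractions of sections on an affine open
-/

set_option autoImplicit false
set_option backward.isDefEq.respectTransparency false
universe u

open CategoryTheory Limits AlgebraicGeometry Opposite TopologicalSpace

namespace Groth.Agent.Lib.QCohChart.Retraction

open QCoh.Tilde

/-- Sections of a restriction to an affine open, naturally in the module. -/
theorem exists_equiv_natural {X : Scheme.{u}} {U : X.Opens} (hU : IsAffineOpen U) {M N : X.Modules}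
    (f : M ⟶ N) :
    ∃ (α : (specΓ Γ(X, U)).obj (M.restrict hU.fromSpec) ≅ ModuleCat.of Γ(X, U) Γ(M, U))
      (β : (specΓ Γ(X, U)).obj (N.restrict hU.fromSpec) ≅ ModuleCat.of Γ(X, U) Γ(N, U)),
      ∀ x, β.hom ((specΓ Γ(X, U)).map ((Scheme.Modules.restrictFunctor hU.fromSpec).map f) x) =
        f.app U (α.hom x) := by
  have e : hU.fromSpec ''ᵁ ⊤ = U := by
    rw [Scheme.Hom.image_top_eq_opensRange, hU.opensRange_fromSpec]
  have mk : ∀ L : X.Modules, ∃ α : (specΓ Γ(X, U)).obj (L.restrict hU.fromSpec) ≅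
      ModuleCat.of Γ(X, U) Γ(L, U), ∀ x, α.hom x =
        L.presheaf.map (eqToHom e.symm).op (x : Γ(L, hU.fromSpec ''ᵁ ⊤)) := fun L => by
    refine ⟨LinearEquiv.toModuleIso
      (X₁ := (specΓ Γ(X, U)).obj (L.restrict hU.fromSpec))
      { toFun := fun z ↦ L.presheaf.map (eqToHom e.symm).op (z : Γ(L, hU.fromSpec ''ᵁ ⊤))
        invFun := fun z ↦ (L.presheaf.map (eqToHom e).op z :)
        left_inv := fun z ↦ ?_
        right_inv := fun z ↦ ?_
        map_add' := fun a b ↦ map_add (L.presheaf.map (eqToHom e.symm).op).hom a b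
        map_smul' := fun r z ↦ ?_ }, fun _ => rfl⟩
    · refine Eq.trans ?_ (congrArg (fun c : Γ(X, U) ↦
        c • L.presheaf.map (eqToHom e.symm).op (z : Γ(L, hU.fromSpec ''ᵁ ⊤)))
          (H30.ModThick.fromSpec_smul_eq hU e r))
      exact L.map_smul _ _ _
    · simp [← AddCommGrpCat.comp_apply, ← Functor.map_comp]
    · simp [← AddCommGrpCat.comp_apply, ← Functor.map_comp]
  obtain ⟨α, hα⟩ := mk M
  obtain ⟨β, hβ⟩ := mk N
  refine ⟨α, β, fun x => ?_⟩
  rw [hα, hβ]
  exact (congr($(f.mapPresheaf.naturality (eqToHom e.symm).op) (x : Γ(M, hU.fromSpec ''ᵁ ⊤)))).symm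

/-- A retraction of the sections over an affine open is a retraction of the restrictions. -/
theorem exists_retraction {X : Scheme.{u}} {U : X.Opens} (hU : IsAffineOpen U) {M N : X.Modules}
    [M.IsQuasicoherent] [N.IsQuasicoherent] (f : M ⟶ N) (r : Γ(N, U) →ₗ[Γ(X, U)] Γ(M, U))
    (hr : ∀ x, r (f.app U x) = x) :
    ∃ ρ : (Scheme.Modules.restrictFunctor U.ι).obj N ⟶ (Scheme.Modules.restrictFunctor U.ι).obj M,
      (Scheme.Modules.restrictFunctor U.ι).map f ≫ ρ = 𝟙 _ := by
  let R := Scheme.Modules.restrictFunctor hU.fromSpec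
  let f' := R.map f
  haveI : (R.obj M).IsQuasicoherent := Free.isQCoh_restrict M hU
  haveI : (R.obj N).IsQuasicoherent := Free.isQCoh_restrict N hU
  obtain ⟨α, β, hαβ⟩ := exists_equiv_natural hU f
  let Γf := (specΓ Γ(X, U)).map f'
  let r' : (specΓ Γ(X, U)).obj (R.obj N) ⟶ (specΓ Γ(X, U)).obj (R.obj M) :=
    β.hom ≫ ModuleCat.ofHom r ≫ α.inv
  have hr' : Γf ≫ r' = 𝟙 _ := by
    ext x
    show α.inv (r (β.hom (Γf x))) = x
    rw [hαβ, hr]
    exact congr($(α.hom_inv_id) x)
  haveI : IsIso ((specAdj Γ(X, U)).counit.app (R.obj M)) :=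
    (isQuasicoherent_iff_isIso_fromTildeΓ (R.obj M)).mp inferInstance
  haveI : IsIso ((specAdj Γ(X, U)).counit.app (R.obj N)) :=
    (isQuasicoherent_iff_isIso_fromTildeΓ (R.obj N)).mp inferInstance
  let ρ' : R.obj N ⟶ R.obj M := inv ((specAdj Γ(X, U)).counit.app (R.obj N)) ≫
    (tilde.functor _).map r' ≫ (specAdj Γ(X, U)).counit.app (R.obj M)
  have hρ' : f' ≫ ρ' = 𝟙 _ := by
    rw [← cancel_epi ((specAdj Γ(X, U)).counit.app (R.obj M))]
    erw [Category.comp_id]
    have hn := (specAdj Γ(X, U)).counit.naturality f'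
    rw [Functor.id_map] at hn
    simp only [ρ']
    erw [← Category.assoc, ← hn]
    rw [Category.assoc, IsIso.hom_inv_id_assoc]
    show (tilde.functor _).map Γf ≫ (tilde.functor _).map r' ≫ _ = _
    rw [← Category.assoc, ← Functor.map_comp, hr', CategoryTheory.Functor.map_id]
    exact Category.id_comp _
  let E : Scheme.Modules.restrictFunctor U.ι ≅
      R ⋙ Scheme.Modules.restrictFunctor hU.isoSpec.hom :=
    Scheme.Modules.restrictFunctorCongr hU.isoSpec_hom_fromSpec.symm ≪≫
      Scheme.Modules.restrictFunctorComp hU.isoSpec.hom hU.fromSpec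
  refine ⟨E.hom.app N ≫ (Scheme.Modules.restrictFunctor hU.isoSpec.hom).map ρ' ≫ E.inv.app M, ?_⟩
  rw [← Category.assoc, E.hom.naturality f]
  show (E.hom.app M ≫ (Scheme.Modules.restrictFunctor hU.isoSpec.hom).map f') ≫ _ = _
  rw [Category.assoc]
  rw [← Category.assoc (f := (Scheme.Modules.restrictFunctor hU.isoSpec.hom).map f'),
    ← Functor.map_comp, hρ', CategoryTheory.Functor.map_id, Category.id_comp]
  exact E.hom_inv_id_app M

end Groth.Agent.Lib.QCohChart.Retraction
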