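import Groth.Agent.Lib.QCoh.Stalk
import Groth.Agent.Lib.Modules.Stalk

/-!
# Mono / epi / exact for quasi-coherent modules, checked on one affine chart around each point
-/

set_option autoImplicit false
universe u

open CategoryTheory Limits AlgebraicGeometry Opposite TopologicalSpace

namespace Groth.Agent.Lib.QCohChart.Basic

open Modules.StalkModule

variable {X : Scheme.{u}}

theorem mono_of_charts {M N : X.Modules} [M.IsQuasicoherent] [N.IsQuasicoherent] (φ : M ⟶ N)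
    (h : ∀ x : X, ∃ U : X.Opens, IsAffineOpen U ∧ x ∈ U ∧ Function.Injective (φ.app U)) :
    Mono φ := by
  refine (mono_iff_stalkMapₗ_injective φ).2 fun x => ?_
  rw [injective_iff_map_eq_zero]
  intro z hz
  obtain ⟨U, hU, hx, hinj⟩ := h x
  obtain ⟨f, t, hf, hft⟩ := QCoh.Stalk.exists_smul_eq_germ M hU hx z
  have h0 : N.presheaf.germ U x hx (φ.app U t) = 0 := by
    rw [← stalkMapₗ_germ φ hx t, ← hft, map_smul, hz, smul_zero]
  obtain ⟨g, hg, hg0⟩ := (QCoh.Stalk.germ_eq_zero_iff N hU hx _).1 h0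
  have hgt : g • t = 0 := hinj (by rw [Scheme.Modules.Hom.app_smul, hg0, map_zero])
  have ht0 : M.presheaf.germ U x hx t = 0 :=
    (QCoh.Stalk.germ_eq_zero_iff M hU hx t).2 ⟨g, hg, hgt⟩
  rw [ht0] at hft
  exact (((RingedSpace.mem_basicOpen _ f x hx).mp hf)).smul_eq_zero.mp hft

theorem epi_of_charts {M N : X.Modules} [N.IsQuasicoherent] (φ : M ⟶ N)
    (h : ∀ x : X, ∃ U : X.Opens, IsAffineOpen U ∧ x ∈ U ∧ Function.Surjective (φ.app U)) :
    Epi φ := by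
  refine (epi_iff_stalkMapₗ_surjective φ).2 fun x z => ?_
  obtain ⟨U, hU, hx, hsur⟩ := h x
  obtain ⟨f, t, hf, hft⟩ := QCoh.Stalk.exists_smul_eq_germ N hU hx z
  obtain ⟨s, rfl⟩ := hsur t
  obtain ⟨u, hu⟩ := (RingedSpace.mem_basicOpen _ f x hx).mp hf
  refine ⟨(↑u⁻¹ : X.presheaf.stalk x) • M.presheaf.germ U x hx s, ?_⟩
  rw [map_smul, stalkMapₗ_germ φ hx s, ← hft, smul_smul]
  erw [← hu]
  rw [Units.inv_mul, one_smul]

theorem exact_of_charts (S : ShortComplex X.Modules) [S.X₂.IsQuasicoherent] [S.X₃.IsQuasicoherent]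
    (h : ∀ x : X, ∃ U : X.Opens, IsAffineOpen U ∧ x ∈ U ∧
      ∀ t : Γ(S.X₂, U), S.g.app U t = 0 → ∃ w : Γ(S.X₁, U), S.f.app U w = t) :
    S.Exact := by
  rw [Modules.Stalk.exact_iff_stalk]
  intro x
  rw [ShortComplex.ab_exact_iff]
  intro z (hz : stalkMapₗ S.g x z = 0)
  obtain ⟨U, hU, hx, hex⟩ := h x
  obtain ⟨f, t, hf, hft⟩ := QCoh.Stalk.exists_smul_eq_germ S.X₂ hU hx z
  have h0 : S.X₃.presheaf.germ U x hx (S.g.app U t) = 0 := by
    rw [← stalkMapₗ_germ S.g hx t, ← hft, map_smul, hz, smul_zero]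
  obtain ⟨g, hg, hg0⟩ := (QCoh.Stalk.germ_eq_zero_iff S.X₃ hU hx _).1 h0
  obtain ⟨w, hw⟩ := hex (g • t) (by rw [Scheme.Modules.Hom.app_smul, hg0])
  obtain ⟨u, hu⟩ := ((RingedSpace.mem_basicOpen _ g x hx).mp hg).mul
    ((RingedSpace.mem_basicOpen _ f x hx).mp hf)
  refine ⟨(↑u⁻¹ : X.presheaf.stalk x) • S.X₁.presheaf.germ U x hx w, ?_⟩
  show stalkMapₗ S.f x _ = z
  rw [map_smul, stalkMapₗ_germ S.f hx w, hw, germ_smul, ← hft, smul_smul, smul_smul, mul_assoc]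
  erw [← hu]
  rw [Units.inv_mul, one_smul]

theorem shortExact_of_charts (S : ShortComplex X.Modules) [S.X₁.IsQuasicoherent]
    [S.X₂.IsQuasicoherent] [S.X₃.IsQuasicoherent]
    (h : ∀ x : X, ∃ U : X.Opens, IsAffineOpen U ∧ x ∈ U ∧ Function.Injective (S.f.app U) ∧
      (∀ t : Γ(S.X₂, U), S.g.app U t = 0 → ∃ w : Γ(S.X₁, U), S.f.app U w = t) ∧
      Function.Surjective (S.g.app U)) :
    S.ShortExact where
  exact := exact_of_charts S fun x => by
    obtain ⟨U, h1, h2, -, h3, -⟩ := h x; exact ⟨U, h1, h2, h3⟩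
  mono_f := mono_of_charts S.f fun x => by
    obtain ⟨U, h1, h2, h3, -, -⟩ := h x; exact ⟨U, h1, h2, h3⟩
  epi_g := epi_of_charts S.g fun x => by
    obtain ⟨U, h1, h2, -, -, h3⟩ := h x; exact ⟨U, h1, h2, h3⟩

end Groth.Agent.Lib.QCohChart.Basic
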